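import Cfsg.Agent.H5.C5.Blk

/-! The model of the normaliser of `5^{1+2}` in `SL₅(p)` and the stabiliser of the splitting
`W₀ ⊕ W₁ ⊕ W₂`. -/

set_option autoImplicit false
set_option linter.unusedSimpArgs false
set_option linter.unusedSectionVars false
set_option linter.unusedVariables false

namespace Cfsg.Agent.H5.C5

open Matrix Cfsg.Agent.H5.T3 Cfsg.Agent.H8
open Matrix.ProjGenLinGroup (mk)

variable {F : Type*} [Field F]

abbrev M5 (F : Type*) := Matrix (Fin 5) (Fin 5) F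
abbrev M3 (F : Type*) := Matrix (Fin 3) (Fin 3) F
abbrev M2 (F : Type*) := Matrix (Fin 2) (Fin 2) F

def ρ (ω : F) : M5 F := !![1,0,0,0,0; 0,ω,0,0,0; 0,0,ω^2,0,0; 0,0,0,ω^3,0; 0,0,0,0,ω^4]
def τ : M5 F := !![0,0,0,0,1; 1,0,0,0,0; 0,1,0,0,0; 0,0,1,0,0; 0,0,0,1,0]
def τ' : M5 F := !![0,1,0,0,0; 0,0,1,0,0; 0,0,0,1,0; 0,0,0,0,1; 1,0,0,0,0]
def uu (ω : F) : M5 F := !![1,0,0,0,0; 0,ω,0,0,0; 0,0,ω^4,0,0; 0,0,0,ω^4,0; 0,0,0,0,ω]
def σ : M5 F := !![1,0,0,0,0; 0,0,0,0,1; 0,0,0,1,0; 0,0,1,0,0; 0,1,0,0,0]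
def δ : M5 F := !![-1,0,0,0,0; 0,0,0,-1,0; 0,-1,0,0,0; 0,0,0,0,-1; 0,0,-1,0,0]
def δ' : M5 F := !![-1,0,0,0,0; 0,0,-1,0,0; 0,0,0,0,-1; 0,-1,0,0,0; 0,0,0,-1,0]
def Φ (ω : F) : M5 F :=
  !![1,1,1,1,1; 1,ω,ω^2,ω^3,ω^4; 1,ω^2,ω^4,ω,ω^3; 1,ω^3,ω,ω^4,ω^2; 1,ω^4,ω^3,ω^2,ω]
def A0 (F : Type*) [Field F] : Matrix (Fin 5) (Fin 1) F := !![1; 0; 0; 0; 0]
def B0 (F : Type*) [Field F] : Matrix (Fin 1) (Fin 5) F := !![1, 0, 0, 0, 0]
def A1 (F : Type*) [Field F] : Matrix (Fin 5) (Fin 2) F := !![0,0; 1,0; 0,0; 0,0; 0,1]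
def B1 (F : Type*) [Field F] : Matrix (Fin 2) (Fin 5) F := !![0,1,0,0,0; 0,0,0,0,1]
def A2 (F : Type*) [Field F] : Matrix (Fin 5) (Fin 2) F := !![0,0; 0,0; 1,0; 0,1; 0,0]
def B2 (F : Type*) [Field F] : Matrix (Fin 2) (Fin 5) F := !![0,0,1,0,0; 0,0,0,1,0]

/-- entrywise computation -/
macro "mc" : tactic => `(tactic|
  simp [← Matrix.ext_iff, Fin.forall_fin_succ, ρ, τ, τ', uu, σ, δ, δ', Φ, A0, B0, A1, B1, A2, B2,
    Matrix.mul_apply, Matrix.vecMul, dotProduct, Fin.sum_univ_succ, Matrix.transvection,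
    Matrix.single_apply, Matrix.one_apply])

/-- entrywise computation, one goal for each entry -/
macro "mcx" : tactic => `(tactic| (ext i j; fin_cases i <;> fin_cases j <;>
  simp [ρ, τ, τ', uu, σ, δ, δ', Φ, A0, B0, A1, B1, A2, B2,
    Matrix.mul_apply, Matrix.vecMul, dotProduct, Fin.sum_univ_succ]))

theorem conj_single (X Y : M5 F) (i j a b : Fin 5) : (X * single i j (1 : F) * Y : M5 F) a b = X a i * Y j b := by
  simp [Matrix.mul_apply, single_apply, ite_and]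

theorem BA0 : (B0 F * A0 F : Matrix (Fin 1) (Fin 1) F) = 1 := by mc
theorem BA1 : (B1 F * A1 F : M2 F) = 1 := by mc
theorem BA2 : (B2 F * A2 F : M2 F) = 1 := by mc
theorem sum012 : (A0 F * B0 F + A1 F * B1 F + A2 F * B2 F : M5 F) = 1 := by mc
theorem δδ' : (δ * δ' : M5 F) = 1 := by mc
theorem δ'δ : (δ' * δ : M5 F) = 1 := by mc
theorem ττ' : (τ * τ' : M5 F) = 1 := by mc
theorem δδ : (δ * δ : M5 F) = σ := by mc
theorem σσ : (σ * σ : M5 F) = 1 := by mc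

/-- the standing hypotheses on the overgroup `M` -/
structure Hy (p : ℕ) (ω : F) (M : Subgroup (GL (Fin 5) F)) : Prop where
  pf : PF F p
  om : ω ^ 4 + ω ^ 3 + ω ^ 2 + ω + 1 = 0
  five : (5 : F) ≠ 0
  two : (2 : F) ≠ 0
  hρ : InM M (ρ ω)
  hτ : InM M τ
  hu : InM M (uu ω)
  hδ : InM M δ
  hφ : ∃ c : F, 5 * c ^ 2 = 1 ∧ InM M (c • Φ ω)
  det : ∀ g ∈ M, g.1.det = 1

theorem om5 {ω : F} (h : ω ^ 4 + ω ^ 3 + ω ^ 2 + ω + 1 = 0) : ω ^ 5 = 1 := by
  linear_combination (ω - 1) * h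

theorem om0 {ω : F} (h : ω ^ 4 + ω ^ 3 + ω ^ 2 + ω + 1 = 0) : ω ≠ 0 := by
  rintro rfl; simp at h

theorem om_pow {ω : F} (h : ω ^ 4 + ω ^ 3 + ω ^ 2 + ω + 1 = 0) (h5 : (5 : F) ≠ 0) {k : ℕ}
    (hk : k % 5 ≠ 0) : ω ^ k ≠ 1 := by
  intro e
  have := pow_gcd_eq_one.2 ⟨e, om5 h⟩
  have hc : Nat.gcd k 5 = 1 := (Nat.coprime_comm.1 ((Nat.Prime.coprime_iff_not_dvd Nat.prime_five).2
    (fun d => hk (Nat.mod_eq_zero_of_dvd d))))
  rw [hc, pow_one] at this
  rw [this] at h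
  exact h5 (by linear_combination h)

theorem om_ne {ω : F} (h : ω ^ 4 + ω ^ 3 + ω ^ 2 + ω + 1 = 0) (h5 : (5 : F) ≠ 0) {k l : ℕ}
    (hk : (k + 4 * l) % 5 ≠ 0) : ω ^ k ≠ ω ^ l := fun e => om_pow h h5 hk (by
  rw [pow_add, e, ← pow_add, show l + 4 * l = 5 * l by ring, pow_mul, om5 h, one_pow])

namespace Hy

variable {p : ℕ} {ω : F} {M : Subgroup (GL (Fin 5) F)} (h : Hy p ω M)
include h

theorem fin : Finite (GL (Fin 5) F) := by haveI := h.pf.fin; infer_instance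

theorem hσ : InM M σ := (h.hδ.mul h.hδ).congr δδ

theorem hδ' : InM M δ' := h.hδ.inv δδ'

theorem cτ {X : M5 F} (hX : InM M X) : InM M (τ * X * τ') := (h.hτ.mul hX).mul (h.hτ.inv ττ')

theorem cδ {X : M5 F} (hX : InM M X) : InM M (δ * X * δ') := (h.hδ.mul hX).mul h.hδ'

theorem big {i j : Fin 5} (hij : i ≠ j) (hX : InM M (transvection i j 1)) : SLin M := by
  have k1 : ∀ i j : Fin 5, InM M (transvection i j 1) → InM M (transvection (i + 1) (j + 1) 1) := by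
    intro i j hX
    refine (h.cτ hX).congr ?_
    rw [transvection, mul_add, add_mul, Matrix.mul_one, ττ', transvection]
    congr 1
    have e1 : ∀ a i, (τ : M5 F) a i = if i + 1 = a then 1 else 0 := by
      intro a i; fin_cases a <;> fin_cases i <;> simp [τ]
    have e2 : ∀ a i, (τ' : M5 F) i a = if i + 1 = a then 1 else 0 := by
      intro a i; fin_cases a <;> fin_cases i <;> simp [τ']
    ext a b
    rw [conj_single, e1, e2, single_apply]
    simp [ite_and]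
    split_ifs <;> rfl
  have k2 : ∀ i j : Fin 5, InM M (transvection i j 1) → InM M (transvection (2 * i) (2 * j) 1) := by
    intro i j hX
    refine (h.cδ hX).congr ?_
    rw [transvection, mul_add, add_mul, Matrix.mul_one, δδ', transvection]
    congr 1
    have e1 : ∀ a i, (δ : M5 F) a i = if 2 * i = a then -1 else 0 := by
      intro a i; fin_cases a <;> fin_cases i <;> simp +decide [δ]
    have e2 : ∀ a i, (δ' : M5 F) i a = if 2 * i = a then -1 else 0 := by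
      intro a i; fin_cases a <;> fin_cases i <;> simp +decide [δ']
    ext a b
    rw [conj_single, e1, e2, single_apply]
    simp [ite_and]
    split_ifs <;> simp
  have k3 : ∀ (a : ℕ) (i j : Fin 5), InM M (transvection i j 1) →
      InM M (transvection ((· + 1)^[a] i) ((· + 1)^[a] j) 1) := by
    intro a
    induction a with
    | zero => exact fun _ _ h => h
    | succ a ih => exact fun i j h => ih _ _ (k1 i j h)
  have k4 : ∀ (a : ℕ) (i j : Fin 5), InM M (transvection i j 1) →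
      InM M (transvection ((2 * ·)^[a] i) ((2 * ·)^[a] j) 1) := by
    intro a
    induction a with
    | zero => exact fun _ _ h => h
    | succ a ih => exact fun i j h => ih _ _ (k2 i j h)
  have k5 : ∀ i j i' j' : Fin 5, i ≠ j → i' ≠ j' → ∃ a : Fin 4, ∃ b : Fin 5,
      (· + 1)^[b] ((2 * ·)^[a] i) = i' ∧ (· + 1)^[b] ((2 * ·)^[a] j) = j' := by decide
  apply slin_of_elem
  intro i' j' hij' c
  obtain ⟨a, b, rfl, rfl⟩ := k5 i j i' j' hij hij'
  obtain ⟨n, rfl⟩ := h.pf.cast c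
  refine ((k3 b _ _ (k4 a _ _ hX)).pow n).congr ?_
  rw [transvection, unip2_pow (single_mul_single_of_ne _ _ _ _ hij'.symm _), transvection]
  congr 1
  rw [← Nat.cast_smul_eq_nsmul F, smul_single, smul_eq_mul, mul_one]

end Hy

/-- the stabiliser of the splitting -/
def HH (M : Subgroup (GL (Fin 5) F)) : Subgroup (GL (Fin 5) F) :=
  M ⊓ (Cm (A0 F * B0 F) ⊓ (Cm (A1 F * B1 F) ⊓ Cm (A2 F * B2 F)))

variable {M : Subgroup (GL (Fin 5) F)}

theorem HH0 : HH M ≤ Cm (A0 F * B0 F) := fun _ h => h.2.1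
theorem HH1 : HH M ≤ Cm (A1 F * B1 F) := fun _ h => h.2.2.1
theorem HH2 : HH M ≤ Cm (A2 F * B2 F) := fun _ h => h.2.2.2

def r0 (M : Subgroup (GL (Fin 5) F)) := rs' BA0 (HH0 (M := M))
def r1 (M : Subgroup (GL (Fin 5) F)) := rs' BA1 (HH1 (M := M))
def r2 (M : Subgroup (GL (Fin 5) F)) := rs' BA2 (HH2 (M := M))

theorem HH_dec (g : HH M) :
    g.1.1 = A0 F * (r0 M g).1 * B0 F + A1 F * (r1 M g).1 * B1 F + A2 F * (r2 M g).1 * B2 F := by
  rw [r0, r1, r2, rs'_val, rs'_val, rs'_val, sandwich BA0 (HH0 g.2), sandwich BA1 (HH1 g.2),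
    sandwich BA2 (HH2 g.2), ← mul_add, ← mul_add, sum012, Matrix.mul_one]

theorem mem_HH {X : M5 F} (hX : InM M X) (h0 : X * (A0 F * B0 F) = A0 F * B0 F * X)
    (h1 : X * (A1 F * B1 F) = A1 F * B1 F * X) (h2 : X * (A2 F * B2 F) = A2 F * B2 F * X) :
    ∃ g : HH M, g.1.1 = X := by
  obtain ⟨g, hg, rfl⟩ := hX
  exact ⟨⟨g, hg, h0, h1, h2⟩, rfl⟩

namespace Hy

variable {p : ℕ} {ω : F} (h : Hy p ω M)
include h

theorem swap12 (g : HH M) : ∃ g' : HH M, (r2 M g').1 = (r1 M g).1 ∧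
    (r1 M g').1 = !![0, 1; 1, 0] * (r2 M g).1 * !![0, 1; 1, 0] := by
  have e0 : (δ' * (A0 F * B0 F) : M5 F) = A0 F * B0 F * δ' := by mc
  have e1 : (δ' * (A1 F * B1 F) : M5 F) = A2 F * B2 F * δ' := by mc
  have e2 : (δ' * (A2 F * B2 F) : M5 F) = A1 F * B1 F * δ' := by mc
  have f0 : (δ * (A0 F * B0 F) : M5 F) = A0 F * B0 F * δ := by mc
  have f1 : (δ * (A1 F * B1 F) : M5 F) = A2 F * B2 F * δ := by mc
  have f2 : (δ * (A2 F * B2 F) : M5 F) = A1 F * B1 F * δ := by mc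
  have key : ∀ e e' : M5 F, δ' * e = e' * δ' → δ * e' = e * δ → g.1.1 * e' = e' * g.1.1 →
      δ * g.1.1 * δ' * e = e * (δ * g.1.1 * δ') := fun e e' a b c => by
    rw [Matrix.mul_assoc, a, ← Matrix.mul_assoc, Matrix.mul_assoc δ, c, ← Matrix.mul_assoc, b]
    simp only [Matrix.mul_assoc]
  obtain ⟨g', hg'⟩ := mem_HH (h.cδ (InM.of g.2.1)) (key _ _ e0 f0 (HH0 g.2))
    (key _ _ e1 f2 (HH2 g.2)) (key _ _ e2 f1 (HH1 g.2))
  refine ⟨g', ?_, ?_⟩
  · rw [r1, r2, rs'_val, rs'_val, hg']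
    generalize g.1.1 = X
    mcx
  · rw [r1, r2, rs'_val, rs'_val, hg']
    generalize g.1.1 = X
    mcx

theorem exρ : ∃ g : HH M, (r0 M g).1 = 1 ∧ (r1 M g).1 = !![ω, 0; 0, ω ^ 4] ∧
    (r2 M g).1 = !![ω ^ 2, 0; 0, ω ^ 3] := by
  obtain ⟨g, hg⟩ := mem_HH h.hρ (by mc) (by mc) (by mc)
  refine ⟨g, ?_, ?_, ?_⟩ <;> simp only [r0, r1, r2, rs'_val, hg] <;> mc

/-- if the stabiliser induces `SL₂` on `W₁`, then `M` is everything. -/
theorem of_slin (h1 : SLin (r1 M).range) : SLin M := by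
  haveI := h.fin
  haveI := h.pf.char
  have hp0 : (p : F) = 0 := CharP.cast_eq_zero F p
  have h2 : SLin (r2 M).range := by
    intro Y hY
    obtain ⟨_, ⟨g, rfl⟩, e⟩ := h1 Y hY
    obtain ⟨g', e', -⟩ := h.swap12 g
    exact ⟨_, ⟨g', rfl⟩, e'.trans e⟩
  obtain ⟨_, ⟨g, rfl⟩, e⟩ := h1 !![1, 1; 0, 1] (by simp [det_fin_two])
  obtain ⟨x, -, ⟨a, ha⟩, hx⟩ := exists_ppart h.pf.prime (r1 M) g (Units.ext (by
    rw [Units.val_pow_eq_pow_val, e, up_pow, hp0]; mc))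
  have x1 : (r1 M x).1 = !![1, 1; 0, 1] := by rw [hx, e]
  have x0 : r0 M x = 1 := by
    have := unip h.pf (X := (r0 M x).1) (a := a) (by
      rw [← Units.val_pow_eq_pow_val, ← map_pow, ha, map_one, Units.val_one])
    rw [Fintype.card_fin, pow_one, sub_eq_zero] at this
    exact Units.ext this
  have x2 := unip h.pf (X := (r2 M x).1) (a := a) (by
      rw [← Units.val_pow_eq_pow_val, ← map_pow, ha, map_one, Units.val_one])
  rw [Fintype.card_fin, pow_two] at x2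
  by_cases hx2 : (r2 M x).1 = 1
  · apply h.big (i := 1) (j := 4) (by decide)
    refine (InM.of x.2.1).congr ?_
    rw [HH_dec, x0, x1, hx2]; mc
  obtain ⟨r, q0, q1, q2⟩ := h.exρ
  obtain ⟨k, hk⟩ := h.pf.cast (ω ^ 2)
  have h5 := om5 h.om
  set y := r * x * r⁻¹ * (x ^ k)⁻¹ with hy
  have y0 : r0 M y = 1 := by
    rw [hy, map_mul, map_mul, map_mul, map_inv, map_inv, map_pow, x0]; simp
  have y1 : r1 M y = 1 := by
    rw [hy, map_mul, map_mul, map_mul, map_inv, map_inv, map_pow, mul_inv_eq_one,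
      mul_inv_eq_iff_eq_mul]
    apply Units.ext
    rw [Units.val_mul, Units.val_mul, Units.val_pow_eq_pow_val, x1, q1, up_pow, ← hk]
    mc
    linear_combination (-ω) * h5
  have y2 : ¬ H7.IsScal (r2 M y).1 := by
    rintro ⟨c, hc⟩
    have e1 : (r2 M r).1 * (r2 M x).1 = c • ((r2 M x).1 ^ k * (r2 M r).1) := by
      have : r2 M r * r2 M x = r2 M y * (r2 M x ^ k * r2 M r) := by
        rw [hy, map_mul, map_mul, map_mul, map_inv, map_inv, map_pow]; group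
      have := congrArg Units.val this
      rwa [Units.val_mul, Units.val_mul, Units.val_mul, hc, smul_mul_assoc, Matrix.one_mul,
        Units.val_pow_eq_pow_val] at this
    obtain ⟨N, hN⟩ : ∃ N, (r2 M x).1 = 1 + N := ⟨(r2 M x).1 - 1, by abel⟩
    rw [hN, add_sub_cancel_left] at x2
    rw [hN, unip2_pow x2, ← Nat.cast_smul_eq_nsmul F, ← hk, q2] at e1
    apply hx2
    rw [hN, add_eq_left]
    have a00 := congrFun (congrFun e1 0) 0
    have a01 := congrFun (congrFun e1 0) 1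
    have a10 := congrFun (congrFun e1 1) 0
    have a11 := congrFun (congrFun e1 1) 1
    have b00 := congrFun (congrFun x2 0) 0
    have b01 := congrFun (congrFun x2 0) 1
    have b10 := congrFun (congrFun x2 1) 0
    have b11 := congrFun (congrFun x2 1) 1
    simp [mul_apply, vecMul, dotProduct, Fin.sum_univ_two] at a00 a01 a10 a11 b00 b01 b10 b11
    have w0 := om0 h.om
    have tr : N 0 0 + N 1 1 = 0 := by
      by_contra ht
      have c1 : N 0 1 = 0 := mul_left_cancel₀ ht (by linear_combination b01)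
      rw [c1, zero_mul, add_zero, mul_self_eq_zero] at b00
      rw [c1, mul_zero, zero_add, mul_self_eq_zero] at b11
      exact ht (by rw [b00, b11, add_zero])
    have hc1 : c = 1 := by
      apply mul_left_cancel₀ (mul_ne_zero h.two (pow_ne_zero 3 w0))
      linear_combination -ω * a00 - a11 + (ω ^ 3 - c * ω ^ 5) * tr
    subst hc1
    have n2 : ω ^ 2 - 1 ≠ 0 := sub_ne_zero.2 (om_pow h.om h.five (by norm_num))
    have n3 : ω ^ 3 - 1 ≠ 0 := sub_ne_zero.2 (om_pow h.om h.five (by norm_num))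
    have n1 : ω ^ 1 - 1 ≠ 0 := sub_ne_zero.2 (om_pow h.om h.five (by norm_num))
    have c00 : N 0 0 = 0 := mul_left_cancel₀ (mul_ne_zero (pow_ne_zero 2 w0) n2) (by
      linear_combination -a00)
    have c01 : N 0 1 = 0 := mul_left_cancel₀ (mul_ne_zero (pow_ne_zero 2 w0) n3) (by
      linear_combination -a01)
    have c10 : N 1 0 = 0 := mul_left_cancel₀ (mul_ne_zero (pow_ne_zero 3 w0) n1) (by
      linear_combination -a10)
    have c11 : N 1 1 = 0 := by linear_combination tr - c00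
    ext i j; fin_cases i <;> fin_cases j <;> simp [c00, c01, c10, c11]
  have hJ := slin_of_normal (J := ((r0 M).ker ⊓ (r1 M).ker).map (r2 M)) (om0 h.om)
    (om_pow h.om h.five (by norm_num)) (by
      rintro G G' _ hG hG' ⟨_, ⟨z, ⟨z0, z1⟩, rfl⟩, rfl⟩
      obtain ⟨_, ⟨w, rfl⟩, e⟩ := h2 G hG
      refine ⟨_, ⟨w * z * w⁻¹, ⟨?_, ?_⟩, rfl⟩, ?_⟩
      · exact (MonoidHom.normal_ker _).conj_mem z z0 w
      · exact (MonoidHom.normal_ker _).conj_mem z z1 w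
      · rw [map_mul, map_mul, map_inv, Units.val_mul, Units.val_mul, e,
          Units.inv_eq_of_mul_eq_one_right (e ▸ hG')]) (InM.of ⟨y, ⟨y0, y1⟩, rfl⟩) y2
  obtain ⟨_, ⟨z, ⟨z0, z1⟩, rfl⟩, e⟩ := hJ !![1, 1; 0, 1] (by simp [det_fin_two])
  apply h.big (i := 2) (j := 3) (by decide)
  refine (InM.of z.2.1).congr ?_
  rw [HH_dec, show r0 M z = 1 from z0, show r1 M z = 1 from z1, e]; mc

theorem T1 (hn : ¬ SLin M) (g : HH M) {a b : F} (hg : (r1 M g).1 = !![a, b; b, a]) :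
    a = 0 ∨ b = 0 := by
  by_contra! hab
  obtain ⟨r, -, q1, -⟩ := h.exρ
  obtain ⟨s, hs⟩ := mem_HH h.hσ (by mc) (by mc) (by mc)
  have s1 : (r1 M s).1 = !![0, 1; 1, 0] := by rw [r1, rs'_val, hs]; mc
  have w0 := om0 h.om
  rcases dick h.pf (X := (r1 M).range) w0 (pow_ne_zero 4 w0)
    (by rw [← pow_mul, mul_comm, pow_mul, om5 h.om, one_pow])
    (by simpa using om_ne h.om h.five (k := 1) (l := 4) (by norm_num)) ⟨_, ⟨r, rfl⟩, q1⟩
    ⟨_, ⟨s, rfl⟩, by simp [s1]⟩ ⟨_, ⟨g, rfl⟩, by simp [hg, hab.1, hab.2]⟩ with k | k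
  · exact hn (h.of_slin k)
  · refine k.not_comm (s := r1 M s) (x := r1 M g) ⟨s, rfl⟩ ⟨g, rfl⟩ ?_ ?_ ?_ ?_
    · rw [← map_mul, mk_eq_one_iff]; simp [s1, mul_apply, Fin.sum_univ_succ]
    · rw [Ne, mk_eq_one_iff]; simp [s1]
    · rw [← map_mul, Ne, mk_eq_one_iff]
      simp only [Units.val_mul, hg]
      rintro ⟨e, -⟩
      simp [mul_apply, Fin.sum_univ_succ] at e
      exact mul_ne_zero h.two (mul_ne_zero hab.1 hab.2) (by linear_combination e)
    · have : r1 M g * r1 M s = r1 M s * r1 M g := by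
        apply Units.ext
        rw [Units.val_mul, Units.val_mul, hg, s1]; mc
      rw [← map_mul ProjGenLinGroup.mk, ← map_mul ProjGenLinGroup.mk, this]

theorem T2 (hn : ¬ SLin M) (g : HH M) {a b : F} (hg : (r2 M g).1 = !![a, b; b, a]) :
    a = 0 ∨ b = 0 := by
  obtain ⟨g', -, e⟩ := h.swap12 g
  exact h.T1 hn g' (by rw [e, hg]; mc)

end Hy

end Cfsg.Agent.H5.C5
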